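import Mathlib
import Groth.Prelude.Def_Cyc
import Groth.Prelude.Def_Bivar
import Groth.Agent.CycPushLib.Proper
import Groth.Agent.CycCommLib.RatEquiv
import Groth.Agent.CycPushLib.Vanish
import Groth.Agent.CycBivLib.Birational

/-!
# Locally finite families of principal divisors as cycles
-/

set_option autoImplicit false
set_option linter.style.haveILetI false

universe u

open AlgebraicGeometry CategoryTheory

noncomputable section

namespace CycSeqLib

open CycDivLib (gpull)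

variable {X Y : Scheme.{u}} {δ : X → ℤ}

/-- A locally finite family of principal divisors. -/
structure Fam (X : Scheme.{u}) (δ : X → ℤ) (k : ℤ) where
  /-- the index type -/
  I : Type u
  /-- the points -/
  ξ : I → X
  /-- the functions -/
  f : (i : I) → X.residueField (ξ i)
  delta : ∀ i, δ (ξ i) = k + 1
  ne_zero : ∀ i, f i ≠ 0
  locFin : ∀ x : X, ∃ U : Set X, IsOpen U ∧ x ∈ U ∧ {i | (closure {ξ i} ∩ U).Nonempty}.Finite

namespace Fam

variable {k : ℤ}

/-- The sum of the divisors of a family. -/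
def sum (A : Fam X δ k) (x : X) : ℤ := ∑ᶠ i, Cyc.divFun δ (A.ξ i) (A.f i) x

theorem sum_ne_zero_delta (A : Fam X δ k) {x : X} (h : A.sum x ≠ 0) : δ x = k := by
  by_contra hx
  refine h (finsum_eq_zero_of_forall_eq_zero fun i => dif_neg fun hh => hx ?_)
  have := A.delta i
  omega

/-- The sum of a family as a cycle. -/
def cyc (A : Fam X δ k) (hX : Cyc.IsSetup X δ) : AlgebraicCycle X ℤ where
  toFun := A.sum
  supportWithinDomain' := by simp
  supportLocallyFiniteWithinDomain' x _ := by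
    haveI := hX.1
    obtain ⟨U, hU, hxU, hfin⟩ := A.locFin x
    obtain ⟨V, hV, hxV, hVU⟩ := exists_isAffineOpen_mem_and_subset (X := X) (x := x) (U := ⟨U, hU⟩) hxU
    refine ⟨V, V.isOpen.mem_nhds hxV,
      (hfin.biUnion fun i _ => CycPushLib.finite_divFun_support hX (A.ξ i) (A.ne_zero i) hV).subset ?_⟩
    rintro z ⟨hzV, hz⟩
    have hz' : A.sum z ≠ 0 := hz
    obtain ⟨i, hi⟩ : ∃ i, Cyc.divFun δ (A.ξ i) (A.f i) z ≠ 0 := by
      by_contra hc
      push Not at hc
      exact hz' (finsum_eq_zero_of_forall_eq_zero hc)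
    refine Set.mem_biUnion (show i ∈ {i | (closure {A.ξ i} ∩ U).Nonempty} from ⟨z, ?_, hVU hzV⟩) ⟨hzV, hi⟩
    by_contra hn
    exact hi (CycC1Lib.divFun_eq_zero_of_not_specializes (fun h => hn (specializes_iff_mem_closure.1 h)) _)

theorem cyc_mem_Zk (A : Fam X δ k) (hX : Cyc.IsSetup X δ) : A.cyc hX ∈ Cyc.Zk X δ k :=
  fun _ hx => by_contra fun h => hx (A.sum_ne_zero_delta h)

theorem ratEquivZero (A : Fam X δ k) {α : AlgebraicCycle X ℤ} (h : ∀ x, α x = A.sum x) :
    Cyc.RatEquivZero δ k α := ⟨A.I, A.ξ, A.f, A.delta, A.ne_zero, A.locFin, h⟩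

theorem exists_of_ratEquivZero {α : AlgebraicCycle X ℤ} (h : Cyc.RatEquivZero δ k α) :
    ∃ A : Fam X δ k, ∀ x, α x = A.sum x := by
  obtain ⟨I, ξ, f, h1, h2, h3, h4⟩ := h
  exact ⟨⟨I, ξ, f, h1, h2, h3⟩, h4⟩

/-- The members with a property. -/
def sub (A : Fam X δ k) (P : A.I → Prop) : Fam X δ k where
  I := {i // P i}
  ξ i := A.ξ i.1
  f i := A.f i.1
  delta i := A.delta i.1
  ne_zero i := A.ne_zero i.1
  locFin x := by
    obtain ⟨U, hU, hx, hfin⟩ := A.locFin x
    exact ⟨U, hU, hx, (hfin.preimage Subtype.val_injective.injOn).subset fun i hi => hi⟩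

theorem sum_eq_sub_add_sub (A : Fam X δ k) (hX : Cyc.IsSetup X δ) (P : A.I → Prop) (x : X) :
    A.sum x = (A.sub P).sum x + (A.sub fun i => ¬ P i).sum x := by
  let G : A.I → ℤ := fun i => Cyc.divFun δ (A.ξ i) (A.f i) x
  have hG : (Function.support G).Finite := CycCommLib.divFun_finite_index hX A.ξ A.f A.locFin x
  show ∑ᶠ i, G i = (∑ᶠ i : {i // P i}, G i.1) + ∑ᶠ i : {i // ¬ P i}, G i.1
  rw [finsum_subtype_eq_finsum_cond (f := G) P, finsum_subtype_eq_finsum_cond (f := G) fun i => ¬ P i]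
  show _ = (∑ᶠ i ∈ {i | P i}, G i) + ∑ᶠ i ∈ {i | ¬ P i}, G i
  have hd : Disjoint {i | P i} {i | ¬ P i} := Set.disjoint_left.2 fun i (h : P i) (h' : ¬ P i) => h' h
  rw [← finsum_mem_union' hd (hG.inter_of_right _) (hG.inter_of_right _),
    show {i | P i} ∪ {i | ¬ P i} = Set.univ from Set.eq_univ_of_forall fun i => em (P i), finsum_mem_univ]

/-- A family on a closed subscheme containing all its points. -/
theorem exists_restrict (A : Fam X δ k) (hX : Cyc.IsSetup X δ) {W : Scheme.{u}} (i : W ⟶ X)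
    [IsClosedImmersion i] (h : ∀ j, A.ξ j ∈ Set.range i) :
    ∃ B : Fam W (fun w => δ (i w)) k, (∀ w, B.sum w = A.sum (i w)) ∧ ∀ x, x ∉ Set.range i → A.sum x = 0 := by
  choose ζ hζ using h
  refine ⟨⟨A.I, ζ, fun j => gpull i (hζ j) (A.f j), fun j => (congrArg δ (hζ j)).trans (A.delta j),
    fun j => (_root_.map_ne_zero _).2 (A.ne_zero j), fun w => ?_⟩, fun w => ?_, fun x hx => ?_⟩
  · obtain ⟨U, hU, hw, hfin⟩ := A.locFin (i w)
    refine ⟨i ⁻¹' U, hU.preimage i.continuous, hw, hfin.subset ?_⟩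
    rintro j ⟨z, hz, hzU⟩
    refine ⟨i z, ?_, hzU⟩
    rw [← hζ j]
    exact specializes_iff_mem_closure.1 ((specializes_iff_mem_closure.2 hz).map i.continuous)
  · exact finsum_congr fun j => (CycPushLib.divFun_closedImmersion i hX (hζ j) (A.ne_zero j) w).symm
  · refine finsum_eq_zero_of_forall_eq_zero fun j => ?_
    refine CycC1Lib.divFun_eq_zero_of_not_specializes (fun hs => hx ?_) _
    exact hs.mem_closed i.isClosedEmbedding.isClosed_range ⟨ζ j, hζ j⟩

end Fam

theorem cycMap_sub (f : X ⟶ Y) [QuasiCompact f] (δX : X → ℤ) (δY : Y → ℤ) (α β : AlgebraicCycle X ℤ) :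
    AlgebraicCycle.map f δX δY (α - β) =
      AlgebraicCycle.map f δX δY α - AlgebraicCycle.map f δX δY β := by
  rw [sub_eq_add_neg, Bivar.cycMap_add, Bivar.cycMap_neg, ← sub_eq_add_neg]

/-- The pushforward of the sum of a family. -/
theorem map_cyc_apply {δY : Y → ℤ} {k : ℤ} (A : Fam X δ k) (hX : Cyc.IsSetup X δ) (hY : Cyc.IsSetup Y δY)
    (p : X ⟶ Y) [IsProper p] (hp : Cyc.DeltaCompat p δ δY) (y : Y) :
    AlgebraicCycle.map p δ δY (A.cyc hX) y = ∑ᶠ i, if δY (p (A.ξ i)) = δ (A.ξ i) then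
      Cyc.divFun δY (p (A.ξ i)) (Cyc.normGen p (A.ξ i) (A.f i)) y else 0 := by
  classical
  obtain ⟨V, hV, hyV, -⟩ := exists_isAffineOpen_mem_and_subset (X := Y) (x := y) (U := ⊤) trivial
  let K : Set X := p ⁻¹' (V : Set Y)
  have hK : IsCompact K := QuasiCompact.isCompact_preimage (f := p) _ V.isOpen hV.isCompact
  have hcpt : {i | (closure {A.ξ i} ∩ K).Nonempty}.Finite := by
    choose U hUo hxU hUf using A.locFin
    obtain ⟨t, ht⟩ := hK.elim_finite_subcover U hUo fun x _ => Set.mem_iUnion.2 ⟨x, hxU x⟩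
    refine (t.finite_toSet.biUnion fun x _ => hUf x).subset ?_
    rintro i ⟨x, hx, hxK⟩
    obtain ⟨z, hz, hxz⟩ := Set.mem_iUnion₂.1 (ht hxK)
    exact Set.mem_biUnion hz ⟨x, hx, hxz⟩
  let I := hcpt.toFinset
  let d : A.I → X → ℤ := fun i => Cyc.divFun δ (A.ξ i) (A.f i)
  let c : X → ℤ := fun x => ((AlgebraicCycle.mapCoeff p δ δY x : ℕ) : ℤ)
  have hdfin : ∀ i, (p ⁻¹' {y} ∩ Function.support (fun x => d i x * c x)).Finite := fun i =>
    (Bivar.finite_fiber_inter_support p (CycPushLib.divCyc hX (A.ξ i) (A.ne_zero i)) y).subset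
      (Set.inter_subset_inter_right _ (Function.support_mul_subset_left (d i) c))
  let T : Finset X := I.biUnion fun i => (hdfin i).toFinset
  show ∑ᶠ x ∈ p ⁻¹' {y}, A.sum x * c x = _
  have hsum : ∀ x, p x = y → A.sum x = ∑ i ∈ I, d i x := fun x hx => by
    refine finsum_eq_sum_of_support_subset _ fun i hi => ?_
    rw [Finset.mem_coe, Set.Finite.mem_toFinset]
    refine ⟨x, ?_, show p x ∈ V by rw [hx]; exact hyV⟩
    by_contra hn
    exact hi (CycC1Lib.divFun_eq_zero_of_not_specializes (fun h => hn (specializes_iff_mem_closure.1 h)) _)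
  rw [finsum_mem_congr rfl (g := fun x => ∑ i ∈ I, d i x * c x) fun x hx => by
    rw [hsum x hx, Finset.sum_mul]]
  have hT : ∀ i ∈ I, ∑ᶠ x ∈ p ⁻¹' {y}, d i x * c x = ∑ x ∈ T.filter (fun x => p x = y), d i x * c x := by
    intro i hi
    refine finsum_mem_eq_sum_of_inter_support_eq _ ?_
    ext x
    simp only [Set.mem_inter_iff, Set.mem_preimage, Set.mem_singleton_iff, Function.mem_support,
      Finset.coe_filter, Set.mem_setOf_eq, T, Finset.mem_biUnion, Set.Finite.mem_toFinset]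
    exact ⟨fun hx => ⟨⟨⟨i, hi, hx⟩, hx.1⟩, hx.2⟩, fun hx => ⟨hx.1.2, hx.2⟩⟩
  rw [finsum_mem_eq_sum_of_inter_support_eq (s := p ⁻¹' {y}) (t := T.filter (fun x => p x = y)) _ (by
    ext x
    simp only [Set.mem_inter_iff, Set.mem_preimage, Set.mem_singleton_iff, Function.mem_support,
      Finset.coe_filter, Set.mem_setOf_eq, T, Finset.mem_biUnion, Set.Finite.mem_toFinset]
    refine ⟨fun hx => ⟨⟨?_, hx.1⟩, hx.2⟩, fun hx => ⟨hx.1.2, hx.2⟩⟩
    obtain ⟨i, hi, hne⟩ := Finset.exists_ne_zero_of_sum_ne_zero hx.2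
    exact ⟨i, hi, hx.1, hne⟩), Finset.sum_comm, Finset.sum_congr rfl fun i hi => (hT i hi).symm,
    Finset.sum_congr rfl fun i _ => CycPushLib.pushSum_divFun hX hY p hp (A.ξ i) (A.ne_zero i) y]
  refine (finsum_eq_sum_of_support_subset _ fun i hi => ?_).symm
  rw [Finset.mem_coe, Set.Finite.mem_toFinset]
  have hne : ite _ _ _ ≠ (0 : ℤ) := hi
  split_ifs at hne with h
  · refine ⟨A.ξ i, subset_closure rfl, ?_⟩
    by_contra hn
    have hns : ¬ p (A.ξ i) ⤳ y := fun h' => hn (h'.mem_open V.isOpen hyV)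
    exact hne (CycC1Lib.divFun_eq_zero_of_not_specializes hns _)
  · exact absurd rfl hne

theorem map_closed_apply {W : Scheme.{u}} (i : W ⟶ X) [IsClosedImmersion i] (α : AlgebraicCycle W ℤ) (w : W) :
    AlgebraicCycle.map i (fun w => δ (i w)) δ α (i w) = α w :=
  CycBivLib.map_apply_of_unique i _ _ _ w rfl (CycPushLib.residueDegree_eq_one_of_preimmersion i w)
    fun _ h _ => i.isClosedEmbedding.injective h

theorem map_closed_apply_zero {W : Scheme.{u}} (i : W ⟶ X) [IsClosedImmersion i] (α : AlgebraicCycle W ℤ)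
    {x : X} (hx : x ∉ Set.range i) : AlgebraicCycle.map i (fun w => δ (i w)) δ α x = 0 :=
  CycBivLib.map_apply_eq_zero i _ _ _ x fun w hw => absurd ⟨w, hw⟩ hx

end CycSeqLib

end
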