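import Mathlib
import Groth.Prelude.Def_W4stkchowintpicEnv
import Groth.Agent.CycSeqLib.Family
import Groth.Agent.CycBivLib.Setup

/-!
# The exact sequence of an envelope
-/

set_option autoImplicit false
set_option linter.style.haveILetI false

universe u

open AlgebraicGeometry CategoryTheory CategoryTheory.Limits IsLocalRing

noncomputable section

namespace CycSeqLib

variable {X Y : Scheme.{u}} {δ : X → ℤ} {δY : Y → ℤ}

/-- A function at a point is the norm of a function at a lift with the same residue field. -/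
theorem exists_norm_lift (f : Y ⟶ X) {x : X} (b : X.residueField x) (y : Y) (hy : f y = x)
    (hs : Function.Surjective (f.residueFieldMap y).hom) :
    ∃ g : Y.residueField y, (b ≠ 0 → g ≠ 0) ∧
      ∀ (δ : X → ℤ) (z : X), Cyc.divFun δ (f y) (Cyc.normGen f y g) z = Cyc.divFun δ x b z := by
  subst hy
  refine ⟨f.residueFieldMap y b, fun hb => (_root_.map_ne_zero _).2 hb, fun δ z => ?_⟩
  congr 1
  rw [Cyc.normGen]
  letI := (f.residueFieldMap y).hom.toAlgebra
  show Algebra.norm (X.residueField (f y)) (algebraMap (X.residueField (f y)) _ b) = b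
  rw [Algebra.norm_algebraMap,
    ← Algebra.finrank_eq_of_equiv_equiv (RingEquiv.refl (X.residueField (f y)))
      (RingEquiv.ofBijective (algebraMap (X.residueField (f y)) (Y.residueField y))
        ⟨RingHom.injective _, hs⟩) (by ext; rfl), Module.finrank_self, pow_one]

/-- A point of the fibre product over a pair with a lift of trivial residue extension. -/
theorem exists_pair (f : Y ⟶ X) (y₀ y : Y) (h : f y₀ = f y)
    (hs : Function.Surjective (f.residueFieldMap y₀).hom) :
    ∃ z : ↥(pullback f f), pullback.fst f f z = y₀ ∧ pullback.snd f f z = y ∧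
      Function.Surjective ((pullback.snd f f).residueFieldMap z).hom := by
  haveI : IsIso (f.residueFieldMap y₀) :=
    (ConcreteCategory.isIso_iff_bijective _).2 ⟨(f.residueFieldMap y₀).hom.injective, hs⟩
  let φ : Y.residueField y₀ ⟶ Y.residueField y :=
    inv (f.residueFieldMap y₀) ≫ (X.residueFieldCongr h).hom ≫ f.residueFieldMap y
  let s : Spec (Y.residueField y) ⟶ Y := Spec.map φ ≫ Y.fromSpecResidueField y₀
  have hsq : s ≫ f = Y.fromSpecResidueField y ≫ f := by
    simp only [s, φ, Category.assoc, ← Scheme.Hom.SpecMap_residueFieldMap_fromSpecResidueField, Spec.map_comp]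
    rw [← Spec.map_comp_assoc (f.residueFieldMap y₀), IsIso.hom_inv_id, Spec.map_id, Category.id_comp,
      Scheme.residueFieldCongr_fromSpecResidueField]
  let L := pullback.lift s (Y.fromSpecResidueField y) hsq
  let q : ↥(Spec (Y.residueField y)) := closedPoint (Y.residueField y)
  refine ⟨L q, ?_, ?_, ?_⟩
  · rw [← Scheme.Hom.comp_apply, pullback.lift_fst]
    exact Scheme.fromSpecResidueField_apply y₀ _
  · rw [← Scheme.Hom.comp_apply, pullback.lift_snd]
    exact Scheme.fromSpecResidueField_apply y q
  · have hbij : ∀ (j : Spec (Y.residueField y) ⟶ Y), j = Y.fromSpecResidueField y →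
        Function.Bijective (j.residueFieldMap q).hom := by
      rintro _ rfl
      exact DimIneqLib.bijective_residueFieldMap _ q
    have hb := hbij (L ≫ pullback.snd f f) (pullback.lift_snd _ _ _)
    rw [Scheme.residueFieldMap_comp] at hb
    intro b
    obtain ⟨a, ha⟩ := hb.2 ((L.residueFieldMap q).hom b)
    exact ⟨a, (L.residueFieldMap q).hom.injective ha⟩

theorem residueDegree_eq_one_of_residue_surjective {T S : Scheme.{u}} (f : T ⟶ S) (x : T)
    (hs : Function.Surjective (f.residueFieldMap x).hom) : f.residueDegree x = 1 := by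
  unfold AlgebraicGeometry.Scheme.Hom.residueDegree
  letI := (f.residueFieldMap x).hom.toAlgebra
  rw [← Algebra.finrank_eq_of_equiv_equiv (RingEquiv.refl (S.residueField (f x)))
    (RingEquiv.ofBijective (algebraMap (S.residueField (f x)) (T.residueField x)) ⟨RingHom.injective _, hs⟩)
    (by ext; rfl)]
  exact Module.finrank_self _

/-- The exact sequence of an envelope, in the middle. -/
theorem exists_pair_cycle (hX : Cyc.IsSetup X δ) (hY : Cyc.IsSetup Y δY) (f : Y ⟶ X) [IsProper f]
    (hcd : Cyc.IsCompletelyDecomposed f) (hδ : Cyc.DeltaCompat f δY δ) (δ2 : ↥(pullback f f) → ℤ)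
    (hδ2 : Cyc.DeltaCompat (pullback.fst f f) δ2 δY) {k : ℤ} (β : AlgebraicCycle Y ℤ) (hβ : β ∈ Cyc.Zk Y δY k)
    (h0 : Cyc.RatEquivZero δ k (AlgebraicCycle.map f δY δ β)) :
    ∃ γ : AlgebraicCycle (pullback f f) ℤ, γ ∈ Cyc.Zk (pullback f f) δ2 k ∧
      Cyc.RatEquiv δY k β (AlgebraicCycle.map (pullback.fst f f) δ2 δY γ -
        AlgebraicCycle.map (pullback.snd f f) δ2 δY γ) := by
  classical
  choose σ hσ hσs using hcd
  have hsnd : Cyc.DeltaCompat (pullback.snd f f) δ2 δY :=
    CycBivLib.deltaCompat_cancel (pullback.snd f f) f rfl hδ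
      (by rw [← pullback.condition]; exact Bivar.deltaCompat_comp _ f δ2 δY δ hδ2 hδ)
  have hdσ : ∀ x, δY (σ x) = δ x := fun x => by
    have h1 : ∀ (y : Y), Function.Surjective (f.residueFieldMap y).hom → δY y = δ (f y) := fun y hs => by
      obtain ⟨n, hn, hn'⟩ := hδ y
      letI := (f.residueFieldMap y).hom.toAlgebra
      haveI : Module.Finite (X.residueField (f y)) (Y.residueField y) :=
        Module.Finite.of_surjective (Algebra.linearMap (X.residueField (f y)) (Y.residueField y)) hs
      have h0 : Algebra.trdeg (X.residueField (f y)) (Y.residueField y) = 0 := trdeg_eq_zero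
      have hn0 : n = 0 := Nat.cast_eq_zero.1 (hn.symm.trans h0)
      rw [hn', hn0]
      simp
    rw [h1 _ (hσs x), hσ x]
  -- lift the rational equivalence
  obtain ⟨A, hA⟩ := Fam.exists_of_ratEquivZero h0
  choose g hg0 hgdiv using fun i => exists_norm_lift f (A.f i) (σ (A.ξ i)) (hσ _) (hσs _)
  let B : Fam Y δY k :=
    { I := A.I
      ξ := fun i => σ (A.ξ i)
      f := g
      delta := fun i => (hdσ _).trans (A.delta i)
      ne_zero := fun i => hg0 i (A.ne_zero i)
      locFin := fun y => by
        obtain ⟨U, hU, hy, hfin⟩ := A.locFin (f y)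
        refine ⟨f ⁻¹' U, hU.preimage f.continuous, hy, hfin.subset ?_⟩
        rintro i ⟨z, hz, hzU⟩
        refine ⟨f z, ?_, hzU⟩
        rw [← hσ (A.ξ i)]
        exact specializes_iff_mem_closure.1 ((specializes_iff_mem_closure.2 hz).map f.continuous) }
  let β' := β - B.cyc hY
  have hβ'k : ∀ y, δY y ≠ k → β' y = 0 := fun y hy => by
    show β y - B.sum y = 0
    rw [hβ y hy, not_not.1 fun h => hy (B.sum_ne_zero_delta h), sub_zero]
  have hpush : ∀ x, AlgebraicCycle.map f δY δ β' x = 0 := fun x => by
    rw [cycMap_sub]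
    show AlgebraicCycle.map f δY δ β x - AlgebraicCycle.map f δY δ (B.cyc hY) x = 0
    rw [hA x, map_cyc_apply B hY hX f hδ x, sub_eq_zero]
    refine finsum_congr fun i => ?_
    show _ = ite _ (Cyc.divFun δ (f (σ (A.ξ i))) (Cyc.normGen f (σ (A.ξ i)) (g i)) x) 0
    rw [if_pos (by rw [hσ, hdσ]), hgdiv]
  -- the cycle on the fibre product
  choose pr hpr₁ hpr₂ hprs using fun y : Y => exists_pair f (σ (f y)) y (hσ _) (hσs _)
  have hdeg : ∀ y, (pullback.snd f f).residueDegree (pr y) = 1 := fun y =>
    residueDegree_eq_one_of_residue_surjective _ _ (hprs y)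
  have hd2 : ∀ y, δ2 (pr y) = δY y := fun y => by
    obtain ⟨n, hn, hn'⟩ := hsnd (pr y)
    letI := ((pullback.snd f f).residueFieldMap (pr y)).hom.toAlgebra
    haveI : Module.Finite (Y.residueField (pullback.snd f f (pr y))) ((pullback f f).residueField (pr y)) :=
      Module.Finite.of_surjective (Algebra.linearMap (Y.residueField (pullback.snd f f (pr y))) _) (hprs y)
    have h0 : Algebra.trdeg (Y.residueField (pullback.snd f f (pr y))) ((pullback f f).residueField (pr y)) = 0 :=
      trdeg_eq_zero
    have hn0 : n = 0 := Nat.cast_eq_zero.1 (hn.symm.trans h0)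
    rw [hn', hn0, hpr₂]
    simp
  let γ : AlgebraicCycle (pullback f f) ℤ :=
    { toFun := fun z => if pr (pullback.snd f f z) = z then β' (pullback.snd f f z) else 0
      supportWithinDomain' := by simp
      supportLocallyFiniteWithinDomain' := by
        intro z _
        obtain ⟨V, hV, hzV, -⟩ := exists_isAffineOpen_mem_and_subset (X := Y) (x := pullback.snd f f z) (U := ⊤) trivial
        refine ⟨pullback.snd f f ⁻¹' V, (V.isOpen.preimage (pullback.snd f f).continuous).mem_nhds hzV,
          (((LocallyFiniteSupport.finite_inter_support_of_isCompact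
            (Function.locallyFinsupp.locallyFiniteSupport β') hV.isCompact)).image pr).subset ?_⟩
        rintro w ⟨hw, hw'⟩
        rw [Function.mem_support] at hw'
        split_ifs at hw' with h
        · exact ⟨pullback.snd f f w, ⟨hw, hw'⟩, h⟩
        · exact absurd rfl hw' }
  have hγ : ∀ y, γ (pr y) = β' y := fun y => by
    show (if pr (pullback.snd f f (pr y)) = pr y then β' (pullback.snd f f (pr y)) else 0) = _
    rw [hpr₂, if_pos rfl]
  have hγ' : ∀ z, γ z ≠ 0 → ∃ y, z = pr y := fun z hz => by
    change (if pr (pullback.snd f f z) = z then β' (pullback.snd f f z) else 0) ≠ 0 at hz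
    split_ifs at hz with h
    · exact ⟨_, h.symm⟩
    · exact absurd rfl hz
  have hγk : γ ∈ Cyc.Zk (pullback f f) δ2 k := fun z hz => by
    by_contra h
    obtain ⟨y, rfl⟩ := hγ' z h
    rw [hγ] at h
    exact h (hβ'k y (by rwa [← hd2]))
  have hs : AlgebraicCycle.map (pullback.snd f f) δ2 δY γ = β' :=
    Function.locallyFinsuppWithin.ext fun y => by
      conv_lhs => rw [← hpr₂ y]
      rw [CycBivLib.map_apply_of_unique _ _ _ _ (pr y) (by rw [hd2, hpr₂]) (hdeg y) (fun t ht hne => ?_), hγ]
      obtain ⟨y', rfl⟩ := hγ' t hne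
      rw [hpr₂, hpr₂] at ht
      rw [ht]
  have hf : ∀ w, AlgebraicCycle.map (pullback.fst f f) δ2 δY γ w = 0 := fun w => by
    by_cases hw : w = σ (f w)
    swap
    · refine CycBivLib.map_apply_eq_zero _ _ _ _ w fun z hz => by_contra fun hne => hw ?_
      obtain ⟨y, rfl⟩ := hγ' z hne
      rw [hpr₁] at hz
      rw [← hz, hσ]
    refine Eq.trans ?_ (hpush (f w))
    show ∑ᶠ z ∈ pullback.fst f f ⁻¹' {w}, γ z * ((AlgebraicCycle.mapCoeff (pullback.fst f f) δ2 δY z : ℕ) : ℤ) =
      ∑ᶠ y ∈ f ⁻¹' {f w}, β' y * ((AlgebraicCycle.mapCoeff f δY δ y : ℕ) : ℤ)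
    have hinj : Function.Injective pr := fun a b h => by rw [← hpr₂ a, h, hpr₂]
    rw [finsum_mem_inter_support_eq' _ (pullback.fst f f ⁻¹' {w}) (pr '' (f ⁻¹' {f w})) fun z hz => ?_,
      finsum_mem_image hinj.injOn]
    · refine finsum_mem_congr rfl fun y hy => ?_
      have hy' : f y = f w := hy
      rw [hγ]
      congr 2
      rw [AlgebraicCycle.mapCoeff, AlgebraicCycle.mapCoeff]
      have e1 : δY ((pullback.fst f f).base (pr y)) = δ (f.base y) := by
        show δY (pullback.fst f f (pr y)) = δ (f y)
        rw [hpr₁, hdσ]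
      rw [hd2, e1]
      split_ifs with hdd
      · have h1 := CycPushLib.residueDegree_comp (pullback.fst f f) f (pr y)
        have h2 := CycPushLib.residueDegree_comp (pullback.snd f f) f (pr y)
        rw [CycPushLib.residueDegree_congr pullback.condition (pr y), h2, hdeg, one_mul, hpr₂, hpr₁] at h1
        have h3 : f.residueDegree (σ (f y)) = 1 := residueDegree_eq_one_of_residue_surjective f _ (hσs _)
        rw [h3, mul_one] at h1
        exact h1.symm
      · rfl
    · constructor
      · intro hzw
        have hne : γ z ≠ 0 := left_ne_zero_of_mul hz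
        obtain ⟨y, rfl⟩ := hγ' z hne
        refine ⟨y, ?_, rfl⟩
        have : σ (f y) = w := (hpr₁ y).symm.trans hzw
        show f y = f w
        rw [← this, hσ]
      · rintro ⟨y, hy, rfl⟩
        show pullback.fst f f (pr y) = w
        rw [hpr₁, show f y = f w from hy, ← hw]
  refine ⟨-γ, fun z hz => by show -γ z = 0; rw [hγk z hz, neg_zero], B.ratEquivZero fun y => ?_⟩
  rw [Bivar.cycMap_neg, Bivar.cycMap_neg, hs]
  show β y - (-AlgebraicCycle.map (pullback.fst f f) δ2 δY γ y - -(β y - B.sum y)) = B.sum y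
  rw [hf]
  ring

end CycSeqLib

end
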