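import Mathlib
import Groth.Agent.CycSeqLib.Family
import Groth.Agent.CycGysLib.Basic

/-!
# Mayer–Vietoris for cycles
-/

set_option autoImplicit false
set_option linter.style.haveILetI false

universe u

open AlgebraicGeometry CategoryTheory

noncomputable section

namespace CycSeqLib

variable {X X₁ X₂ Y : Scheme.{u}} {δ : X → ℤ}

/-- Exactness in the middle. -/
theorem exists_inter (hX : Cyc.IsSetup X δ) (i₁ : X₁ ⟶ X) (i₂ : X₂ ⟶ X) [IsClosedImmersion i₁] [IsClosedImmersion i₂]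
    (hcov : Set.range i₁ ∪ Set.range i₂ = Set.univ) (j₁ : Y ⟶ X₁) (j₂ : Y ⟶ X₂) [IsClosedImmersion j₁]
    [IsClosedImmersion j₂] (hcomm : j₁ ≫ i₁ = j₂ ≫ i₂) (hY : Set.range i₁ ∩ Set.range i₂ ⊆ Set.range (j₁ ≫ i₁))
    {k : ℤ} (α₁ : AlgebraicCycle X₁ ℤ) (α₂ : AlgebraicCycle X₂ ℤ)
    (h₁ : α₁ ∈ Cyc.Zk X₁ (fun x => δ (i₁ x)) k) (h₂ : α₂ ∈ Cyc.Zk X₂ (fun x => δ (i₂ x)) k)
    (h : Cyc.RatEquivZero δ k
      (AlgebraicCycle.map i₁ (fun x => δ (i₁ x)) δ α₁ + AlgebraicCycle.map i₂ (fun x => δ (i₂ x)) δ α₂)) :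
    ∃ γ : AlgebraicCycle Y ℤ, γ ∈ Cyc.Zk Y (fun y => δ (i₁ (j₁ y))) k ∧
      Cyc.RatEquiv (fun x => δ (i₁ x)) k α₁
        (AlgebraicCycle.map j₁ (fun y => δ (i₁ (j₁ y))) (fun x => δ (i₁ x)) γ) ∧
      Cyc.RatEquiv (fun x => δ (i₂ x)) k α₂
        (-AlgebraicCycle.map j₂ (fun y => δ (i₁ (j₁ y))) (fun x => δ (i₂ x)) γ) := by
  classical
  obtain ⟨A, hA⟩ := Fam.exists_of_ratEquivZero h
  let P : A.I → Prop := fun i => A.ξ i ∈ Set.range i₁
  obtain ⟨B₁, hB₁, hz₁⟩ := (A.sub P).exists_restrict hX i₁ fun j => j.2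
  obtain ⟨B₂, hB₂, hz₂⟩ := (A.sub fun i => ¬ P i).exists_restrict hX i₂ fun j =>
    ((hcov.ge (Set.mem_univ _)).resolve_left j.2)
  have hs₁ := (CycPushLib.setup_of_closedImmersion i₁ hX).1
  have hval : ∀ x, AlgebraicCycle.map i₁ (fun x => δ (i₁ x)) δ α₁ x +
      AlgebraicCycle.map i₂ (fun x => δ (i₂ x)) δ α₂ x =
      (A.sub P).sum x + (A.sub fun i => ¬ P i).sum x := fun x => by
    rw [← A.sum_eq_sub_add_sub hX P x]
    exact hA x
  have hcomm' : ∀ y, i₂ (j₂ y) = i₁ (j₁ y) := fun y => by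
    rw [← Scheme.Hom.comp_apply, ← Scheme.Hom.comp_apply, hcomm]
  let γ := CycGysLib.restrictCyc j₁ (α₁ - B₁.cyc hs₁)
  have hγ : ∀ y, γ y = α₁ (j₁ y) - B₁.sum (j₁ y) := fun y => rfl
  refine ⟨γ, fun y hy => ?_, B₁.ratEquivZero fun w => ?_, B₂.ratEquivZero fun w => ?_⟩
  · rw [hγ, h₁ _ hy, not_not.1 fun h => hy (B₁.sum_ne_zero_delta h), sub_zero]
  · show α₁ w - AlgebraicCycle.map j₁ (fun y => δ (i₁ (j₁ y))) (fun x => δ (i₁ x)) γ w = B₁.sum w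
    by_cases hw : w ∈ Set.range j₁
    · obtain ⟨y, rfl⟩ := hw
      rw [map_closed_apply (δ := fun x => δ (i₁ x)) j₁ γ y, hγ]
      ring
    · rw [map_closed_apply_zero (δ := fun x => δ (i₁ x)) j₁ γ hw, sub_zero, hB₁]
      have hnot : i₁ w ∉ Set.range i₂ := fun hm => by
        obtain ⟨y, hy⟩ := hY ⟨⟨w, rfl⟩, hm⟩
        exact hw ⟨y, i₁.isClosedEmbedding.injective hy⟩
      have := hval (i₁ w)
      rw [map_closed_apply i₁, map_closed_apply_zero i₂ α₂ hnot, hz₂ _ hnot] at this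
      simpa using this
  · show α₂ w - -AlgebraicCycle.map j₂ (fun y => δ (i₁ (j₁ y))) (fun x => δ (i₂ x)) γ w = B₂.sum w
    rw [show (fun y => δ (i₁ (j₁ y))) = fun y => δ (i₂ (j₂ y)) from funext fun y => by rw [hcomm'], sub_neg_eq_add]
    by_cases hw : w ∈ Set.range j₂
    · obtain ⟨y, rfl⟩ := hw
      rw [map_closed_apply (δ := fun x => δ (i₂ x)) j₂ γ y, hγ, hB₁, hB₂]
      have := hval (i₁ (j₁ y))
      rw [map_closed_apply i₁] at this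
      rw [← hcomm' y, map_closed_apply i₂, hcomm' y] at this
      rw [hcomm' y]
      linarith
    · rw [map_closed_apply_zero (δ := fun x => δ (i₂ x)) j₂ γ hw, add_zero, hB₂]
      have hnot : i₂ w ∉ Set.range i₁ := fun hm => by
        obtain ⟨y, hy⟩ := hY ⟨hm, ⟨w, rfl⟩⟩
        rw [Scheme.Hom.comp_apply, ← hcomm'] at hy
        exact hw ⟨y, i₂.isClosedEmbedding.injective hy⟩
      have := hval (i₂ w)
      rw [map_closed_apply i₂, map_closed_apply_zero i₁ α₁ hnot, hz₁ _ hnot] at this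
      simpa using this

/-- Cycles on a covered scheme come from the pieces. -/
theorem exists_split (i₁ : X₁ ⟶ X) (i₂ : X₂ ⟶ X) [IsClosedImmersion i₁] [IsClosedImmersion i₂]
    (hcov : Set.range i₁ ∪ Set.range i₂ = Set.univ) {k : ℤ} (α : AlgebraicCycle X ℤ) (hα : α ∈ Cyc.Zk X δ k) :
    ∃ (α₁ : AlgebraicCycle X₁ ℤ) (α₂ : AlgebraicCycle X₂ ℤ),
      α₁ ∈ Cyc.Zk X₁ (fun x => δ (i₁ x)) k ∧ α₂ ∈ Cyc.Zk X₂ (fun x => δ (i₂ x)) k ∧
      α = AlgebraicCycle.map i₁ (fun x => δ (i₁ x)) δ α₁ + AlgebraicCycle.map i₂ (fun x => δ (i₂ x)) δ α₂ := by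
  classical
  let α₁ := CycGysLib.restrictCyc i₁ α
  let ρ := α - AlgebraicCycle.map i₁ (fun x => δ (i₁ x)) δ α₁
  have hρ : ∀ x, x ∈ Set.range i₁ → ρ x = 0 := by
    rintro _ ⟨w, rfl⟩
    show α (i₁ w) - AlgebraicCycle.map i₁ (fun x => δ (i₁ x)) δ α₁ (i₁ w) = 0
    rw [map_closed_apply i₁]
    exact sub_self _
  have hρ' : ∀ x, x ∉ Set.range i₁ → ρ x = α x := fun x hx => by
    show α x - AlgebraicCycle.map i₁ (fun x => δ (i₁ x)) δ α₁ x = α x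
    rw [map_closed_apply_zero i₁ α₁ hx, sub_zero]
  refine ⟨α₁, CycGysLib.restrictCyc i₂ ρ, fun w hw => hα _ hw, fun w hw => ?_, ?_⟩
  · show ρ (i₂ w) = 0
    by_cases h : i₂ w ∈ Set.range i₁
    · exact hρ _ h
    · rw [hρ' _ h]; exact hα _ hw
  · refine Function.locallyFinsuppWithin.ext fun x => ?_
    show α x = AlgebraicCycle.map i₁ (fun x => δ (i₁ x)) δ α₁ x +
      AlgebraicCycle.map i₂ (fun x => δ (i₂ x)) δ (CycGysLib.restrictCyc i₂ ρ) x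
    have e : AlgebraicCycle.map i₂ (fun x => δ (i₂ x)) δ (CycGysLib.restrictCyc i₂ ρ) x = ρ x := by
      by_cases h : x ∈ Set.range i₂
      · obtain ⟨w, rfl⟩ := h
        exact map_closed_apply i₂ _ w
      · rw [map_closed_apply_zero i₂ _ h, hρ x ((hcov.ge (Set.mem_univ x)).resolve_right h)]
    rw [e]
    show α x = _ + (α x - _)
    ring

end CycSeqLib

end
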